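import Cfsg.Agent.Mrg.Omega.NO3b.EndX.Def
import Cfsg.Agent.Mrg.Omega.NO3b.Closed.Base
import Cfsg.Agent.Mrg.Omega.NO3b.Closed.CountB
import Cfsg.Agent.Mrg.Omega.ML.Ex.Two
import Cfsg.Agent.Mrg.Omega.NO3S.EMany.LowExt
import Cfsg.Agent.Mrg.Omega.KL.StarR.Def
import Cfsg.Agent.Mrg.Omega.KL.StarQ.MainD

section


/-!
# `B^ ∩ N^ ≠ 1` in #24309 (6)(B)(i) and in KL** (#24722) by `RedP` (helper861)

`Sit T F Y z u` : `H` faithful and irreducible on the elementary abelian 2-group `M`, `T` a Sylow 2-subgroup in at least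
two maximal subgroups, `1 ≠ F ≤ T` elementary abelian, exact (`|M : C_M(F)| = |F|`) and low; `Y ≤ M` is normalised by
`N_H(T)`, every `T`-minimal `P` fixes `z` or normalises `Y`; `u ∈ Y`, `z ∉ Y` are `T`-fixed, `u ≠ 1`.

* `trace_mod` : the trace lemma for modules;
* **`Sit.exists_mv`** : (`RedP`, `O(H) = 1`) some overgroup of `T` fixes a `T`-fixed `w ≠ 1` and moves another
  `T`-fixed vector.
-/

set_option autoImplicit false

namespace Cfsg.Agent.Omega.KL.Star.ViaRed

open Subgroup Cfsg Cfsg.Agent.ZN Cfsg.Agent.ClassTwoFusion.Quad Cfsg.Agent.Omega.ML.MinFrame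
open Cfsg.Agent.Omega.NO3b.EndX
open Cfsg.Agent.MinSimple.VModule (oddGen oddGen_le oddGen_mono le_normalizer_oddGen)
open Cfsg.Agent.MinSimple.MinParabolic (IsMinPar le_of_forall)
open Cfsg.Agent.Omega.ML.Ex.Two (Mv)

universe u v

section mod

variable {H : Type u} [Group H] {M : Type v} [Group M] [MulDistribMulAction H M]

/-- **the trace lemma for modules** -/
theorem trace_mod [Finite H] [Finite M] (sq : ∀ m : M, m * m = 1) {V : Subgroup M} {X T : Subgroup H}
    (hXV : ∀ x ∈ X, ∀ v ∈ V, x • v ∈ V) (hT : IsPGroup 2 T) (hTV : ∀ t ∈ T, ∀ v ∈ V, t • v ∈ V)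
    (hTX : T ≤ normalizer (X : Set H)) (hodd : ¬ 2 ∣ (T ⊓ X).relIndex X)
    (hfix : ∀ v ∈ V, (∀ t ∈ T, t • v = v) → ∀ x ∈ X, x • v = v) :
    ∀ v ∈ V, (∀ t ∈ T ⊓ X, t • v = v) → ∀ x ∈ X, x • v = v := by
  let φ : H →* MulAut M := MulDistribMulAction.toMulAut H M
  let inl : M →* M ⋊[φ] H := SemidirectProduct.inl
  let inr : H →* M ⋊[φ] H := SemidirectProduct.inr
  have : Finite (M ⋊[φ] H) := Finite.of_injective (fun g => ((g.left, g.right) : M × H)) (by
    intro a b hab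
    exact SemidirectProduct.ext (congrArg Prod.fst hab) (congrArg Prod.snd hab))
  have key : ∀ (h : H) (m : M), inr h * inl m * (inr h)⁻¹ = inl (h • m) := fun h m => by
    have h1 := SemidirectProduct.inl_aut (φ := φ) h m
    rw [map_inv] at h1
    exact h1.symm
  have iff1 : ∀ (h : H) (m : M), inr h * inl m = inl m * inr h ↔ h • m = m := by
    intro h m
    rw [← mul_inv_eq_iff_eq_mul, key]
    exact SemidirectProduct.inl_injective.eq_iff
  have hcomm : ∀ a b : M, a * b = b * a := fun a b => by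
    have h1 := sq (a * b)
    have h2 : ∀ x : M, x⁻¹ = x := fun x => inv_eq_of_mul_eq_one_right (sq x)
    calc a * b = (a * b)⁻¹ := (h2 _).symm
      _ = b⁻¹ * a⁻¹ := mul_inv_rev a b
      _ = b * a := by rw [h2, h2]
  have hnorm : ∀ A : Subgroup H, (∀ a ∈ A, ∀ v ∈ V, a • v ∈ V) →
      A.map inr ≤ normalizer ((V.map inl : Subgroup (M ⋊[φ] H)) : Set (M ⋊[φ] H)) := by
    intro A hA
    refine NO3b.ClosedPt.norm_of ?_
    rintro _ ⟨a, ha, rfl⟩ _ ⟨v, hv, rfl⟩
    rw [key]
    exact ⟨a • v, hA a ha v hv, rfl⟩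
  have h0 := NO3b.ClosedPt.trace (W := V.map inl) (X := X.map inr) (T := T.map inr)
    (by
      rintro _ ⟨a, -, rfl⟩ _ ⟨b, -, rfl⟩
      rw [← map_mul, ← map_mul, hcomm])
    (by
      rintro _ ⟨a, -, rfl⟩
      rw [← map_mul, sq, map_one])
    (hnorm X hXV) (hT.map inr) (hnorm T hTV)
    (by
      refine NO3b.ClosedPt.norm_of ?_
      rintro _ ⟨t, ht, rfl⟩ _ ⟨x, hx, rfl⟩
      exact ⟨t * x * t⁻¹, (mem_normalizer_iff.1 (hTX ht) x).1 hx, by rw [map_mul, map_mul, map_inv]⟩)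
    (by
      rw [← Subgroup.map_inf _ _ _ SemidirectProduct.inr_injective,
        relIndex_map_map_of_injective _ _ SemidirectProduct.inr_injective]
      exact hodd)
    (by
      rintro _ ⟨v, hv, rfl⟩ hf _ ⟨x, hx, rfl⟩
      exact (iff1 x v).2 (hfix v hv (fun t ht => (iff1 t v).1 (hf _ ⟨t, ht, rfl⟩)) x hx))
  intro v hv hf x hx
  refine (iff1 x v).1 (h0 _ ⟨v, hv, rfl⟩ ?_ _ ⟨x, hx, rfl⟩)
  intro t ht
  rw [← Subgroup.map_inf _ _ _ SemidirectProduct.inr_injective] at ht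
  obtain ⟨t, ht, rfl⟩ := ht
  exact (iff1 t v).2 (hf t ht)

/-- the setwise stabiliser -/
def nst (H : Type u) [Group H] [MulDistribMulAction H M] (W : Subgroup M) : Subgroup H where
  carrier := {h | ∀ w : M, h • w ∈ W ↔ w ∈ W}
  one_mem' := fun w => by rw [one_smul]
  mul_mem' := fun {a b} ha hb w => by rw [mul_smul]; exact (ha _).trans (hb w)
  inv_mem' := fun {a} ha w => by
    have := ha (a⁻¹ • w)
    rw [smul_inv_smul] at this
    exact this.symm

theorem mem_nst [Finite M] {W : Subgroup M} {h : H} (hw : ∀ w ∈ W, h • w ∈ W) : h ∈ nst H W := by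
  intro w
  refine ⟨fun h1 => ?_, hw w⟩
  have h2 : Function.Injective (fun w : W => (⟨h • (w : M), hw w w.2⟩ : W)) := fun a b hab => by
    have := congrArg Subtype.val hab
    exact Subtype.ext (smul_left_cancel h this)
  obtain ⟨w', hw'⟩ := (Finite.injective_iff_surjective.1 h2) ⟨h • w, h1⟩
  have h3 : h • (w' : M) = h • w := congrArg Subtype.val hw'
  rw [← smul_left_cancel h h3]
  exact w'.2

theorem nst_mem {W : Subgroup M} {h : H} (hh : h ∈ nst H W) {w : M} (hw : w ∈ W) : h • w ∈ W := (hh w).2 hw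

end mod

/-- the situation -/
structure Sit {H : Type u} [Group H] {M : Type v} [Group M] [MulDistribMulAction H M] (T F : Subgroup H)
    (Y : Subgroup M) (z u : M) : Prop where
  sq : ∀ m : M, m * m = 1
  faith : ∀ h : H, (∀ m : M, h • m = m) → h = 1
  irr : ∀ W : Subgroup M, (∀ h : H, ∀ w ∈ W, h • w ∈ W) → W = ⊥ ∨ W = ⊤
  two : IsPGroup 2 T
  syl : ¬ 2 ∣ T.index
  FT : F ≤ T
  Fne : F ≠ ⊥
  el : ∀ b ∈ F, b * b = 1
  low : ∀ R : Subgroup H, T ≤ R → R ≠ ⊤ → F ≤ o2 R
  exact : (cv M (F : Set H)).index = Nat.card F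
  nmax : ¬ Nmax T
  NY : ∀ g ∈ normalizer (T : Set H), ∀ w ∈ Y, g • w ∈ Y
  par : ∀ P : Subgroup H, IsMinPar T P → (∀ p ∈ P, p • z = z) ∨ ∀ p ∈ P, ∀ w ∈ Y, p • w ∈ Y
  tz : ∀ t ∈ T, t • z = z
  tu : ∀ t ∈ T, t • u = u
  uY : u ∈ Y
  u1 : u ≠ 1
  zY : z ∉ Y

namespace Sit

variable {H : Type u} [Group H] {M : Type v} [Group M] [MulDistribMulAction H M] {T F : Subgroup H}
  {Y : Subgroup M} {z u : M}

theorem z1 (h : Sit T F Y z u) : z ≠ 1 := fun h1 => h.zY (h1 ▸ one_mem Y)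

theorem H_ne (h : Sit T F Y z u) {v : M} (hv : v ≠ 1) : MulAction.stabilizer H v ≠ ⊤ := by
  intro h1
  have h2 : cv M ((⊤ : Subgroup H) : Set H) = ⊤ := by
    rcases h.irr (cv M ((⊤ : Subgroup H) : Set H)) (fun g w hw k _ => by
      rw [hw g (mem_top g), hw k (mem_top k)]) with h2 | h2
    · exfalso
      have h3 : v ∈ cv M ((⊤ : Subgroup H) : Set H) := fun g _ => by
        have : g ∈ MulAction.stabilizer H v := h1 ▸ mem_top g
        exact this
      rw [h2, mem_bot] at h3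
      exact hv h3
    · exact h2
  apply h.Fne
  rw [eq_bot_iff]
  intro f _
  rw [mem_bot]
  exact h.faith f fun m => (h2 ▸ mem_top m : m ∈ cv M ((⊤ : Subgroup H) : Set H)) f (mem_top f)

/-- **THEOREM** -/
theorem exists_mv [Finite H] [Finite M] (hR : RedP.{u, v}) (h : Sit T F Y z u) (hK : IsKGroup H) (hO : OddFree H) :
    ∃ x y : M, Mv T x y := by
  have : Fact (Nat.Prime 2) := ⟨Nat.prime_two⟩
  by_contra hn
  -- all non-trivial `T`-fixed vectors have the same stabiliser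
  have hst : ∀ v w : M, (∀ t ∈ T, t • v = v) → (∀ t ∈ T, t • w = w) → w ≠ 1 → ∀ r : H, r • w = w → r • v = v := by
    intro v w tv tw w1 r hr
    by_cases v1 : v = 1
    · rw [v1, smul_one]
    by_contra hrv
    exact hn ⟨v, w, v1, w1, tv, tw, MulAction.stabilizer H w, fun t ht => tw t ht, fun _ hx => hx, r, hr, hrv⟩
  have hTn : (oo H).Normal := by
    rw [← oddGen_top_eq_oo, ← normalizer_eq_top_iff, eq_top_iff]
    exact le_normalizer_oddGen ⊤
  have hT0 : T ≤ normalizer ((T ⊓ oo H : Subgroup H) : Set H) := NO3b.ClosedPt.norm_of fun t ht x hx =>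
    ⟨T.mul_mem (T.mul_mem ht hx.1) (T.inv_mem ht), hTn.conj_mem x hx.2 t⟩
  -- `lam = C_M(T)`
  have hzl : z ∈ cv M (T : Set H) := h.tz
  have hul : u ∈ cv M (T : Set H) := h.tu
  have four : 4 ≤ Nat.card (cv M (T : Set H)) := by
    have h1 : zpowers u ≤ cv M (T : Set H) := by rwa [zpowers_le]
    have h2 : Nat.card (zpowers u) = 2 := by
      rw [Nat.card_zpowers]
      exact orderOf_eq_prime (by rw [pow_two]; exact h.sq u) h.u1
    have h3 := card_dvd_of_le h1
    rw [h2] at h3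
    have h4 : Nat.card (cv M (T : Set H)) ≠ 2 := by
      intro h4
      have h5 : zpowers u = cv M (T : Set H) := eq_of_le_of_card_ge h1 (by rw [h4, h2])
      apply h.zY
      rw [← h5] at hzl
      exact (zpowers_le.2 h.uY) hzl
    have h5 : 0 < Nat.card (cv M (T : Set H)) := Nat.card_pos
    omega
  have habs : AbsI T F (MulAction.stabilizer H z) (cv M (T : Set H)) :=
    { sq := h.sq
      faith := h.faith
      irr := h.irr
      two := h.two
      syl := h.syl
      stab := fun v hv v1 g => ⟨fun hg => hst z v h.tz hv v1 g hg, fun hg => hst v z hv h.tz h.z1 g hg⟩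
      TY := fun t ht => h.tz t ht
      Yne := h.H_ne h.z1
      four := four
      BT := h.FT
      Bne := h.Fne
      el := h.el
      low := h.low
      exact := h.exact }
  -- `C_M(O²(H)) = 1`
  have hodd : NO3b.EndX.oo H ⊔ T = ⊤ := by
    rw [← oddGen_top_eq_oo]
    exact oddGen_sup_top le_top (by rw [relIndex_top_right]; exact h.syl)
  have hC : FFBr.odd H M = ⊥ := by
    rw [eq_bot_iff]
    intro m hm
    by_contra hm1
    rw [mem_bot] at hm1
    rcases h.irr (FFBr.odd H M) (fun g w hw x hx => by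
      have h1 : (g⁻¹ * x * g) • w = w := hw _ (by
        have h0 : orderOf (MulAut.conj g⁻¹ x) = orderOf x := MulEquiv.orderOf_eq _ _
        rw [MulAut.conj_apply, inv_inv] at h0
        rwa [h0])
      rw [mul_smul, mul_smul, inv_smul_eq_iff] at h1
      exact h1) with h1 | h1
    · rw [h1, mem_bot] at hm
      exact hm1 hm
    · apply h.H_ne h.z1
      rw [eq_top_iff, ← hodd]
      refine sup_le ?_ fun t ht => h.tz t ht
      refine (closure_le _).2 fun x hx => ?_
      exact (h1 ▸ mem_top z : z ∈ FFBr.odd H M) x hx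
  have hP2 := hR H M T F (MulAction.stabilizer H z) (cv M (T : Set H)) hK hO habs h.nmax u hul h.u1 z hzl
  rw [hC, sup_bot_eq] at hP2
  -- `W = Y ∩ C_M(T₀)` is normalised by `N_H(T₀)`
  set T₀ : Subgroup H := T ⊓ oo H with hT₀
  set W : Subgroup M := Y ⊓ cv M (T₀ : Set H) with hW
  have huW : u ∈ W := ⟨h.uY, fun t ht => h.tu t ht.1⟩
  have hV : ∀ n ∈ normalizer (T₀ : Set H), ∀ w ∈ cv M (T₀ : Set H), n • w ∈ cv M (T₀ : Set H) := by
    intro n hn' w hw t ht
    have h1 : n⁻¹ * t * n ∈ T₀ := (mem_normalizer_iff''.1 hn' t).1 ht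
    have h2 := hw _ h1
    rw [mul_smul, mul_smul, inv_smul_eq_iff] at h2
    exact h2
  have hnW : normalizer (T₀ : Set H) ≤ nst H W := by
    refine le_of_forall hT0 ?_ ?_
    · intro g hg
      exact mem_nst fun w hw => ⟨h.NY g hg.2 w hw.1, hV g hg.1 w hw.2⟩
    · intro P hP hPN
      rcases h.par P hP with h1 | h1
      · -- `P` fixes `z`, so all of `C_M(T)`
        have hD : ∀ v ∈ cv M (T₀ : Set H), (∀ t ∈ T ⊓ (P ⊓ oo H), t • v = v) → ∀ x ∈ P ⊓ oo H, x • v = v := by
          have hTN : T ≤ normalizer ((P ⊓ oo H : Subgroup H) : Set H) := NO3b.ClosedPt.norm_of fun t ht x hx =>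
              ⟨P.mul_mem (P.mul_mem (hP.le ht) hx.1) (P.inv_mem (hP.le ht)), hTn.conj_mem x hx.2 t⟩
          refine trace_mod h.sq (fun x hx => hV x (hPN hx.1)) h.two (fun t ht => hV t (hT0 ht)) hTN ?_ ?_
          · exact NO3b.ClosedPt.odd_inf hTN le_top le_top (by rw [relIndex_top_right]; exact h.syl)
          · intro v hv tv x hx
            exact hst v z tv h.tz h.z1 x (h1 x hx.1)
        have hDP : P ≤ (P ⊓ oo H) ⊔ T := by
          have h2 : ¬ 2 ∣ T.relIndex P := fun h2 => h.syl (h2.trans (relIndex_dvd_index_of_le hP.le))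
          have h3 : oddGen P ≤ P ⊓ oo H := le_inf (oddGen_le P) (by
            rw [← oddGen_top_eq_oo]
            exact oddGen_mono le_top)
          exact (oddGen_sup_top hP.le h2).ge.trans (sup_le_sup_right h3 T)
        refine hDP.trans (sup_le ?_ ?_)
        · intro x hx
          refine mem_nst fun w hw => ?_
          rw [hD w hw.2 (fun t ht => hw.2 t ⟨ht.1, ht.2.2⟩) x hx]
          exact hw
        · intro t ht
          exact mem_nst fun w hw => ⟨h.NY t (le_normalizer ht) w hw.1, hV t (hT0 ht) w hw.2⟩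
      · intro g hg
        exact mem_nst fun w hw => ⟨h1 g hg w hw.1, hV g (hPN hg) w hw.2⟩
  -- the end
  have hzW : z ∈ W := by
    refine (closure_le W).2 ?_ hP2
    rintro m ⟨n, hn', rfl⟩
    exact nst_mem (hnW hn') huW
  exact h.zY hzW.1

end Sit

end Cfsg.Agent.Omega.KL.Star.ViaRed

end

section


/-!
# The machine with an object `Y` which the movers normalise (bb #24309 (6), #24794, #24895, #24934, #25079)

`LB H M T A`, `x` a `T`-fixed vector.  Every `T`-minimal `P` fixes `x`, or its elements of odd order centralise `Y`, or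
`A, J ≤ O₂(P)` and `P ≤ Q`; some `T`-minimal `P` moves `x`, and for its elements `g` of odd order: `g` fixes `x y`,
`y ∈ Y` ⟹ `g` fixes `x`.

* **`exists_sysR`** : `SysR` (with `O(H') = 1`), the object is the image of `Y C_M(K₀ mod U₀) ∩ [M, K₀]`.
-/

set_option autoImplicit false

namespace Cfsg.Agent.Omega.KL.StarR

open Subgroup Cfsg Cfsg.Agent.ZN Cfsg.Agent.ClassTwoFusion.Quad
open Cfsg.Agent.Omega.ML.MinFrame hiding comm_of_sq
open Cfsg.Agent.Omega.ML.Final Cfsg.Agent.Omega.NO3S.EMany.Low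
open Cfsg.Agent.Omega.KL.Star.Core
open Cfsg.Agent.Omega.KL.Star
open Cfsg.Agent.Omega.KL.StarQ (not_top inf_normal bot_of_fix norm_one)
open Cfsg.Agent.MinSimple.VModule (o2_isPGroup o2_le le_o2 le_normalizer_o2 o2_le_of_sylow oddGen oddGen_le oddGen_def)
open Cfsg.Agent.MinSimple.MinParabolic (IsMinPar le_of_forall)

universe u v

section

variable {H : Type u} [Group H] [Finite H] {M : Type v} [Group M] [Finite M] [MulDistribMulAction H M]
  {T A : Subgroup H}

/-- **The machine with an object which the movers normalise.** -/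
theorem exists_sysR (h : LB H M T A) (hM : MLK.{u, v}) {x : M} (tx : ∀ t ∈ T, t • x = x)
    {Y : Subgroup M} {J Q : Subgroup H} (NQ : normalizer (T : Set H) ≤ Q) (QY : ∀ q ∈ Q, ∀ w ∈ Y, q • w ∈ Y)
    (QJ : Q ≤ normalizer (J : Set H)) (JT : J ≤ T)
    (hY : ¬ ∀ g : H, Odd (orderOf g) → ∀ w ∈ Y, g • w = w)
    (par : ∀ P : Subgroup H, IsMinPar T P → (∀ p ∈ P, p • x = x) ∨
      (∀ g ∈ P, Odd (orderOf g) → ∀ w ∈ Y, g • w = w) ∨ (A ≤ o2 P ∧ J ≤ o2 P ∧ P ≤ Q))
    (mv : ∃ P : Subgroup H, T ≤ P ∧ (∃ p ∈ P, p • x ≠ x) ∧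
      ∀ g ∈ P, Odd (orderOf g) → ∀ y ∈ Y, g • (x * y) = x * y → g • x = x)
    (hb : Bad J Q Y ∨ Cen T Y) :
    ∃ (H' : Type u) (_ : Group H') (_ : Finite H') (N : Type v) (_ : Group N) (_ : Finite N)
      (_ : MulDistribMulAction H' N) (T' A' : Subgroup H') (x' : N) (Y' : Subgroup N), SysR H' N T' A' x' Y' := by
  have hcomm := comm_of_sq h.sq
  have hx : ¬ ∀ g : H, g • x = x := by
    obtain ⟨P, -, ⟨p, -, hp⟩, -⟩ := mv
    exact fun hc => hp (hc p)
  have TQ : T ≤ Q := le_normalizer.trans NQ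
  have TY : ∀ t ∈ T, ∀ w ∈ Y, t • w ∈ Y := fun t ht => QY t (TQ ht)
  -- the shift of `x`
  obtain ⟨x0, hx0, hx01⟩ := exists_fix_coset (T := T) (R := ⊤) h.sq (by rw [relIndex_top_right]; exact h.syl) tx
    (I := cmm M A) (fun g _ => h.orb_eq tx g)
  obtain ⟨x1, hx1, hx1e⟩ : ∃ x1 ∈ cmm M A, x1 = x0 * x⁻¹ := ⟨_, hx01, rfl⟩
  have hs : ∀ g : H, g • x1 = x1 ↔ g • x = x := by
    intro g
    rw [hx1e, smul_mul', smul_inv', hx0 g (mem_top g), mul_right_inj, inv_inj]
  have tx1 : ∀ t ∈ T, t • x1 = x1 := fun t ht => (hs t).2 (tx t ht)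
  have mx1 : ¬ ∀ g : H, g • x1 = x1 := fun hc => hx fun g => (hs g).1 (hc g)
  obtain ⟨u, ⟨hu1, hu2⟩, hu3⟩ := exists_vec h TY hY
  obtain ⟨H', j1, j2, N, j3, j4, j5, π, f, B, o⟩ := h.exists_out hM tx1 mx1 hx1
  -- the object in `N`
  let E : Subgroup N := ((Y ⊔ wz M A h.sq).subgroupOf (cmm M A)).map f
  have hn : (wz M A h.sq).Normal := normal_of_sq h.sq _
  have hYW : ∀ g : H, (∀ w ∈ Y, g • w ∈ Y) → ∀ w ∈ Y ⊔ wz M A h.sq, g • w ∈ Y ⊔ wz M A h.sq := by
    intro g hg w hw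
    obtain ⟨y, hy, w0, hw0, rfl⟩ := mem_sup_of_normal_right.1 hw
    rw [smul_mul']
    exact mul_mem (le_sup_left (a := Y) (hg y hy)) (le_sup_right (a := Y) (smul_mem_wz g hw0))
  have hE : ∀ g : H, (∀ w ∈ Y, g • w ∈ Y) → ∀ w ∈ E, π g • w ∈ E := by
    rintro g hg _ ⟨w, hw, rfl⟩
    refine ⟨⟨g • (w : M), smul_mem_cmm g w.2⟩, hYW g hg _ hw, ?_⟩
    exact o.eqv g w
  have hE1 : E ≠ ⊥ := by
    intro h1
    have h2 : f ⟨u, hu2⟩ ∈ E := ⟨⟨u, hu2⟩, hu1, rfl⟩
    rw [h1, mem_bot, o.ker] at h2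
    exact hu3 h2
  -- elements of odd order which centralise `Y` fix `E`
  have hsu : ∀ g : H, Odd (orderOf g) → (∀ w ∈ Y, g • w = w) → ∀ w ∈ E, π g • w = w := by
    rintro g hg hgY _ ⟨w, hw, rfl⟩
    rw [← o.eqv, ← mul_inv_eq_one, ← map_inv, ← map_mul, o.ker]
    change (g • (w : M)) * (w : M)⁻¹ ∈ _
    have hgK : g ∈ Km A := mem_of_odd h.two h.gen hg
    have hw' : (w : M) ∈ Y ⊔ wz M A h.sq := hw
    obtain ⟨y, hy, w0, hw0, hyw⟩ := mem_sup_of_normal_right.1 hw'
    rw [← hyw]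
    have e : g • (y * w0) * (y * w0)⁻¹ = (g • w0) * w0⁻¹ := by
      rw [smul_mul', hgY y hy, mul_inv_rev, hcomm y]
      calc g • w0 * y * (w0⁻¹ * y⁻¹) = g • w0 * (y * w0⁻¹) * y⁻¹ := by group
        _ = g • w0 * (w0⁻¹ * y) * y⁻¹ := by rw [hcomm y w0⁻¹]
        _ = _ := by group
    rw [e]
    exact hw0 g hgK
  have him : ∀ {m : M} (hm : m ∈ cmm M A) {g : H}, g • m = m → π g • f ⟨m, hm⟩ = f ⟨m, hm⟩ := by
    intro m hm g hg
    rw [← o.eqv g ⟨m, hm⟩]
    exact congrArg f (Subtype.ext hg)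
  have htx : ∀ t ∈ T.map π, t • f ⟨x1, hx1⟩ = f ⟨x1, hx1⟩ := by
    rintro _ ⟨t, ht, rfl⟩
    exact him hx1 (tx1 t ht)
  have nx1 : f ⟨x1, hx1⟩ ≠ 1 := by
    rw [Ne, o.ker]
    exact fun hc => mx1 fun g => h.fix_of_cvKm tx1 hc g
  -- `x' ∉ E`
  have hxE : f ⟨x1, hx1⟩ ∉ E := by
    rintro ⟨w, hw, hwx⟩
    obtain ⟨P, hPm, ⟨p, hp, hpx⟩, hsep⟩ := mv
    have h1 : (w : M) * x1⁻¹ ∈ cv M (Km A : Set H) := by
      have h2 : f (w * (⟨x1, hx1⟩ : ↥(cmm M A))⁻¹) = 1 := by rw [map_mul, map_inv, hwx, mul_inv_cancel]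
      exact (o.ker _).1 h2
    have hcw : cv M (Km A : Set H) ≤ wz M A h.sq := by
      intro m hm k hk
      rw [hm k hk, mul_inv_cancel]
      exact one_mem _
    have h2 : x1 ∈ Y ⊔ wz M A h.sq := by
      have e : x1 = ((w : M) * x1⁻¹)⁻¹ * w := by group
      rw [e]
      exact mul_mem (inv_mem (le_sup_right (a := Y) (hcw h1))) hw
    have h3 : x ∈ Y ⊔ wz M A h.sq := by
      have e : x = x1⁻¹ * x0 := by
        rw [hx1e, mul_inv_rev, inv_inv, mul_assoc, inv_mul_cancel, mul_one]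
      rw [e]
      refine mul_mem (inv_mem h2) (le_sup_right (a := Y) (hcw fun k _ => hx0 k (mem_top k)))
    obtain ⟨y, hy, w0, hw0, hyw⟩ := mem_sup_of_normal_right.1 h3
    -- the elements of odd order of `P` fix `x`
    have h4 : ∀ g ∈ P, Odd (orderOf g) → g • x = x := by
      intro g hg hgo
      refine hsep g hg hgo y⁻¹ (inv_mem hy) ?_
      have hgK : g ∈ Km A := mem_of_odd h.two h.gen hgo
      have e : x * y⁻¹ = w0 := by rw [← hyw, hcomm y w0, mul_assoc, mul_inv_cancel, mul_one]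
      rw [e]
      exact fix_of_odd h.sq hgo (hw0 g hgK g hgK)
    have h5 : oddGen P ⊔ T = P := oddGen_sup hPm
      fun h2 => h.syl (h2.trans (relIndex_dvd_index_of_le hPm))
    have h6 : P ≤ MulAction.stabilizer H x := by
      rw [← h5]
      refine sup_le ?_ fun t ht => tx t ht
      rw [oddGen_def, closure_le]
      rintro g ⟨hgP, hgo⟩
      exact h4 g hgP hgo
    exact hpx (h6 hp)
  -- a `T`-fixed vector of `E`
  obtain ⟨u', hu', hu'1, tu'⟩ := exists_fix o.lb.sq (h.two.map π) (fun t ht w hw => by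
    obtain ⟨s, hs', rfl⟩ := ht
    exact hE s (TY s hs') w hw) hE1
  have hxu : f ⟨x1, hx1⟩ ≠ u' := fun he => hxE (he ▸ hu')
  -- the parabolics
  have parE : ∀ P : Subgroup H, IsMinPar T P → (∃ m : N, m ≠ 1 ∧ ∀ p ∈ P.map π, p • m = m) ∨
      (A ≤ o2 P ∧ J ≤ o2 P ∧ P ≤ Q) := by
    intro P hP
    rcases par P hP with h1 | h1 | h1
    · left
      refine ⟨_, nx1, ?_⟩
      rintro _ ⟨q, hq, rfl⟩
      exact him hx1 ((hs q).2 (h1 q hq))
    · left
      refine ⟨u', hu'1, ?_⟩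
      have h3 : oddGen P ⊔ T = P := oddGen_sup hP.le
        fun h2 => h.syl (h2.trans (relIndex_dvd_index_of_le hP.le))
      have h4 : P ≤ (MulAction.stabilizer H' u').comap π := by
        rw [← h3]
        refine sup_le ?_ fun t ht => tu' (π t) ⟨t, ht, rfl⟩
        rw [oddGen_def, closure_le]
        rintro g ⟨hgP, hgo⟩
        exact hsu g hgo (h1 g hgP hgo) u' hu'
      rintro _ ⟨q, hq, rfl⟩
      exact h4 hq
    · exact Or.inr h1
  -- no vector is fixed by `H'`
  have hnofix : ∀ m : N, m ≠ 1 → ¬ ∀ g : H', g • m = m := by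
    intro m hm hc
    have h1 : (⊤ : Subgroup H') = ⊥ := bot_of_fix o.faith o.irr inferInstance hm fun g _ => hc g
    apply o.lb.B1
    rw [eq_bot_iff, ← h1]
    exact le_top
  have nmax : ¬ ∃ L : Subgroup H', L ≠ ⊤ ∧ ∀ R : Subgroup H', T.map π ≤ R → R ≠ ⊤ → R ≤ L := by
    rintro ⟨L, hL, hLm⟩
    by_cases hn : (⊤ : Subgroup H') ≤ normalizer ((T.map π : Subgroup H') : Set H')
    · exact o.lb.nb (o.lb.BT.trans (le_o2 le_top o.lb.two hn))
    · obtain ⟨P, hP, hPt⟩ := KL.GenTool.exists_minPar_map π o.πs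
        (P' := ⊤) ⟨le_top, hn, L, lt_top_iff_ne_top.2 hL, fun K hK hlt => hLm K hK hlt.ne⟩
      rcases parE P hP with ⟨m, hm, h1⟩ | ⟨h1, -, -⟩
      · rw [hPt] at h1
        exact hnofix m hm fun g => h1 g (mem_top g)
      · apply o.lb.nb
        have h2 := (map_mono (f := π) h1).trans (KL.GenTool.o2_map_le π P)
        rw [hPt] at h2
        exact o.AB.trans h2
  -- the kernel of `π` centralises `U¹`
  have hkx1 : ∀ k ∈ π.ker ⊔ T, k • x1 = x1 := by
    refine h.fix_of_mod tx1 le_sup_right (I := cv M (Km A : Set H))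
      (fun w hw tw g _ => h.fix_of_cvKm tw hw g) fun k hk => ?_
    have h1 : π k • f ⟨x1, hx1⟩ = f ⟨x1, hx1⟩ := by
      obtain ⟨k1, hk1, s, hs', rfl⟩ := mem_sup_of_normal_left.1 hk
      rw [map_mul, (MonoidHom.mem_ker).1 hk1, one_mul]
      exact him hx1 (tx1 s hs')
    rw [← o.eqv k ⟨x1, hx1⟩, ← mul_inv_eq_one, ← map_inv, ← map_mul, o.ker] at h1
    exact h1
  have hkU : ∀ k ∈ π.ker, ∀ w ∈ cmm M A, k • w = w := by
    intro k hk w hw
    have h1 : k ∈ fxr H (orb (⊤ : Subgroup H) x1) := by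
      rw [mem_fxr_orb]
      intro s _
      have h2 := hkx1 (s⁻¹ * k * s) (by
        have := (inferInstance : (π.ker).Normal).conj_mem k hk s⁻¹
        rw [inv_inv] at this
        exact mem_sup_left this)
      rwa [mul_smul, mul_smul, inv_smul_eq_iff] at h2
    exact h1 w (h.cmm_le hM tx1 mx1 hw)
  refine ⟨H', j1, j2, N, j3, j4, j5, T.map π, B, f ⟨x1, hx1⟩, E, ?_⟩
  refine ⟨⟨nx1, htx, o.lb.sq, o.faith, o.irr, o.lb.two, o.lb.syl, o.lb.BT, o.lb.el,
    four_le o.lb.sq o.faith o.irr o.lb htx tu' nx1 hu'1 hxu, o.lb.exact, o.lb.atom, o.lb.low, nmax, ?_, o.lb.KH⟩,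
    ?_, ?_, ⟨u', hu', hu'1, tu'⟩, hxE⟩
  · -- no normal subgroup of odd order
    intro K hK hKo
    -- the `T'`-minimal subgroups of `K T'`
    have hmin : ∀ P' : Subgroup H', IsMinPar (T.map π) P' → P' ≤ K ⊔ T.map π →
        P' ≤ Q.map π ∧ J.map π ≤ o2 P' ∧ P' ⊓ K ⊔ T.map π = P' := by
      intro P' hP' hPK
      obtain ⟨P, hP, rfl⟩ := KL.GenTool.exists_minPar_map π o.πs hP'
      obtain ⟨hn1, hn2⟩ := inf_normal o.lb nmax hK hKo hP'.le hPK
      rcases parE P hP with ⟨m, hm, h1⟩ | ⟨h1, h2, h3⟩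
      · have h6 := bot_of_fix o.faith o.irr hn1 hm fun n hn => h1 n hn.1
        rw [h6, bot_sup_eq] at hn2
        exact (hP'.ne hn2).elim
      · exact ⟨map_mono h3, (map_mono h2).trans (KL.GenTool.o2_map_le π P), hn2⟩
    -- `K ≤ π(Q)`
    have hKN : K ≤ Q.map π := by
      have hle : K ⊔ T.map π ≤ Q.map π := by
        refine le_of_forall le_sup_right ?_ fun P' hP' hPK => (hmin P' hP' hPK).1
        rintro ν ⟨-, hν⟩
        obtain ⟨_, ⟨t, ht, rfl⟩, n, hn, rfl⟩ := KL.GenTool.exists_normalizer_map π o.πs h.two h.syl hν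
        exact mul_mem ⟨t, TQ ht, rfl⟩ ⟨n, NQ hn, rfl⟩
      exact le_sup_left.trans hle
    have hT2 : IsPGroup 2 (T.map π) := o.lb.two
    -- the elements of odd order in the preimage of `K` centralise `Y`
    have hDY : ∀ g ∈ Q, π g ∈ K → Odd (orderOf g) → ∀ w ∈ Y, g • w = w := by
      rcases hb with bad | cY
      · -- `π(J)` centralises `K`
        let C : Subgroup H' := K ⊓ centralizer ((J.map π : Subgroup H') : Set H')
        have hTC : T.map π ≤ normalizer (C : Set H') := by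
          have hconj : ∀ t ∈ T.map π, ∀ c ∈ C, t * c * t⁻¹ ∈ C := by
            rintro _ ⟨t, ht, rfl⟩ c hc
            refine ⟨hK.conj_mem c hc.1 _, mem_centralizer_iff.2 ?_⟩
            rintro _ ⟨j, hj, rfl⟩
            have h1 : t⁻¹ * j * t ∈ J := by
              have := (mem_normalizer_iff.1 (QJ (TQ (T.inv_mem ht))) j).1 hj
              rwa [inv_inv] at this
            have h2 := mem_centralizer_iff.1 hc.2 _ ⟨_, h1, rfl⟩
            rw [map_mul, map_mul, map_inv] at h2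
            have h3 := congrArg (fun w => π t * w * (π t)⁻¹) h2
            calc π j * (π t * c * (π t)⁻¹) = π t * ((π t)⁻¹ * π j * π t * c) * (π t)⁻¹ := by group
              _ = π t * (c * ((π t)⁻¹ * π j * π t)) * (π t)⁻¹ := h3
              _ = π t * c * (π t)⁻¹ * π j := by group
          intro t ht
          rw [mem_normalizer_iff]
          intro c
          refine ⟨fun hc => hconj t ht c hc, fun hc => ?_⟩
          have h1 := hconj t⁻¹ ((T.map π).inv_mem ht) _ hc
          have e : t⁻¹ * (t * c * t⁻¹) * t⁻¹⁻¹ = c := by group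
          rwa [e] at h1
        have hKC : K ⊔ T.map π ≤ C ⊔ T.map π := by
          refine le_of_forall (S := T.map π) le_sup_right ?_ ?_
          · rintro ν ⟨hν1, hν2⟩
            obtain ⟨k, hk, t, ht, rfl⟩ := mem_sup_of_normal_left.1 hν1
            refine mul_mem_sup ⟨hk, mem_centralizer_iff.2 ?_⟩ ht
            have hkT : k ∈ normalizer ((T.map π : Subgroup H') : Set H') := by
              have h1 := (normalizer ((T.map π : Subgroup H') : Set H')).mul_mem hν2 (inv_mem (le_normalizer ht))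
              rwa [mul_inv_cancel_right] at h1
            intro s hs'
            have hsT : s ∈ T.map π := map_mono JT hs'
            have h1 : s * k * s⁻¹ * k⁻¹ ∈ K := mul_mem (hK.conj_mem k hk s) (inv_mem hk)
            have h2 : s * k * s⁻¹ * k⁻¹ ∈ T.map π := by
              have h3 := (mem_normalizer_iff.1 hkT s⁻¹).1 (inv_mem hsT)
              have h4 := mul_mem hsT h3
              have e : s * (k * s⁻¹ * k⁻¹) = s * k * s⁻¹ * k⁻¹ := by group
              rwa [e] at h4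
            have h3 := eq_one_of_odd hKo hT2 h1 h2
            calc s * k = s * k * s⁻¹ * k⁻¹ * (k * s) := by group
              _ = k * s := by rw [h3, one_mul]
          · intro P' hP' hPK
            obtain ⟨-, h1, h2⟩ := hmin P' hP' hPK
            rw [← h2]
            refine sup_le_sup_right ?_ _
            rintro k ⟨hkP, hkK⟩
            refine ⟨hkK, mem_centralizer_iff.2 fun s hs' => ?_⟩
            have h3 : s * k * s⁻¹ * k⁻¹ ∈ K := mul_mem (hK.conj_mem k hkK s) (inv_mem hkK)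
            have h4 : s * k * s⁻¹ * k⁻¹ ∈ o2 P' := by
              have h5 := (mem_normalizer_iff.1 (le_normalizer_o2 P' hkP) s⁻¹).1 (inv_mem (h1 hs'))
              have h6 := mul_mem (h1 hs') h5
              have e : s * (k * s⁻¹ * k⁻¹) = s * k * s⁻¹ * k⁻¹ := by group
              rwa [e] at h6
            have h5 := eq_one_of_odd hKo (o2_isPGroup P') h3 h4
            calc s * k = s * k * s⁻¹ * k⁻¹ * (k * s) := by group
              _ = k * s := by rw [h5, one_mul]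
        have hKJ : ∀ κ ∈ K, ∀ j ∈ J, π j * κ = κ * π j := by
          intro κ hκ j hj
          have h1 : κ ∈ ((C ⊔ T.map π : Subgroup H') : Set H') := hKC (mem_sup_left hκ)
          rw [coe_mul_of_right_le_normalizer_left C (T.map π) hTC] at h1
          obtain ⟨c, hc, t, ht, rfl⟩ := h1
          have h3 : t ∈ K := by
            have := K.mul_mem (K.inv_mem hc.1) hκ
            simpa using this
          have h4 : t = 1 := eq_one_of_odd hKo hT2 h3 ht
          rw [h4]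
          simp only [mul_one]
          exact mem_centralizer_iff.1 hc.2 _ ⟨j, hj, rfl⟩
        intro g hg hgK hgo
        refine bad g hg hgo fun j hj w hw => ?_
        refine hkU _ ?_ _ (mem_cmm (mem_of_odd h.two h.gen hgo) w)
        rw [MonoidHom.mem_ker, map_mul, map_mul, map_mul, map_inv, map_inv, hKJ _ hgK j hj]
        group
      · -- `[Y ∩ U¹, D] = 1`
        let D : Subgroup H := Q ⊓ K.comap π ⊓ Km A
        have hDm : D.map π ≤ K := by
          rintro _ ⟨g, hg, rfl⟩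
          exact hg.1.2
        have hDo : Odd (Nat.card (D.map π)) := hKo.of_dvd_nat (card_dvd_of_le hDm)
        have hDU : ∀ g ∈ D, ∀ m ∈ Y ⊓ cmm M A, g • m ∈ Y ⊓ cmm M A := fun g hg m hm =>
          ⟨QY g hg.1.1 m hm.1, smul_mem_cmm g hm.2⟩
        let W : Subgroup M := closure {w : M | ∃ g ∈ D, ∃ y ∈ ((Y ⊓ cmm M A : Subgroup M) : Set M), w = (g • y) * y⁻¹}
        have hWY : W ≤ Y ⊓ cmm M A := by
          rw [closure_le]
          rintro _ ⟨g, hg, y, hy, rfl⟩
          exact mul_mem (hDU g hg y hy) (inv_mem hy)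
        have hDT : ∀ t ∈ T, ∀ g ∈ D, t * g * t⁻¹ ∈ D := by
          intro t ht g hg
          refine ⟨⟨Q.mul_mem (Q.mul_mem (TQ ht) hg.1.1) (Q.inv_mem (TQ ht)), ?_⟩, ?_⟩
          · exact (inferInstance : (K.comap π).Normal).conj_mem g hg.1.2 t
          · exact (inferInstance : (Km A).Normal).conj_mem g hg.2 t
        have hTW : ∀ t ∈ T, ∀ w ∈ W, t • w ∈ W := by
          intro t ht w hw
          have h1 : W ≤ W.comap (MulDistribMulAction.toMonoidHom M t) := by
            rw [closure_le]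
            rintro _ ⟨g, hg, y, hy, rfl⟩
            change t • ((g • y) * y⁻¹) ∈ W
            refine subset_closure ⟨t * g * t⁻¹, hDT t ht g hg, t • y, ⟨TY t ht y hy.1, smul_mem_cmm t hy.2⟩, ?_⟩
            rw [smul_mul', smul_inv', ← mul_smul, ← mul_smul, inv_mul_cancel_right]
          exact h1 hw
        have hW1 : W = ⊥ := by
          by_contra hne
          obtain ⟨w, hw, hw1, tw⟩ := exists_fix h.sq h.two hTW hne
          exact hw1 (norm_one h.sq π (U := cmm M A) hkU hDo (fun m hm => hm.2) hw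
            fun g _ => cY w (hWY hw).1 tw g)
        intro g hgQ hgK hgo w hw
        have hg : g ∈ D := ⟨⟨hgQ, hgK⟩, mem_of_odd h.two h.gen hgo⟩
        refine fix_of_odd h.sq hgo ?_
        have h1 : (g • w) * w⁻¹ ∈ ((Y ⊓ cmm M A : Subgroup M) : Set M) :=
          ⟨Y.mul_mem (QY g hgQ w hw) (Y.inv_mem hw), mem_cmm hg.2 w⟩
        have h2 : (g • ((g • w) * w⁻¹)) * ((g • w) * w⁻¹)⁻¹ ∈ W := subset_closure ⟨g, hg, _, h1, rfl⟩
        rw [hW1, mem_bot] at h2
        exact mul_inv_eq_one.1 h2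
    refine bot_of_fix o.faith o.irr hK hu'1 fun κ hκ => ?_
    obtain ⟨g, hg, rfl⟩ := hKN hκ
    -- the odd part of `g`
    obtain ⟨a, m, hm, ha⟩ := Nat.exists_eq_pow_mul_and_not_dvd (orderOf_pos g).ne' 2 (by norm_num)
    have hm' : Odd m := Nat.not_even_iff_odd.1 fun h => hm h.two_dvd
    have hgo : orderOf (g ^ 2 ^ a) = m := by
      rw [orderOf_pow_of_dvd (by positivity) (ha ▸ Dvd.intro _ rfl), ha, Nat.mul_div_cancel_left _ (by positivity)]
    have hgo' : Odd (orderOf (g ^ 2 ^ a)) := hgo ▸ hm'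
    have h1 : π g ^ 2 ^ a • u' = u' := by
      rw [← map_pow]
      refine hsu _ hgo' (hDY _ (pow_mem hg _) ?_ hgo') u' hu'
      rw [map_pow]
      exact K.pow_mem hκ _
    have h2 : (2 ^ a).Coprime (orderOf (π g)) := by
      have h3 : orderOf (π g) ∣ Nat.card K := by
        have := orderOf_dvd_natCard (⟨π g, hκ⟩ : K)
        rwa [orderOf_mk] at this
      exact Nat.Coprime.pow_left a (Nat.coprime_two_left.mpr (hKo.of_dvd_nat h3))
    obtain ⟨j, hj⟩ := exists_pow_eq_self_of_coprime h2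
    have h3 : (π g ^ 2 ^ a) ^ j ∈ MulAction.stabilizer H' u' := pow_mem h1 j
    rw [hj] at h3
    exact h3
  · -- `N_{H'}(T')` normalises `E`
    intro ν hν w hw
    obtain ⟨_, ⟨t, ht, rfl⟩, n, hn, rfl⟩ := KL.GenTool.exists_normalizer_map π o.πs h.two h.syl hν
    rw [mul_smul]
    exact hE t (TY t ht) _ (hE n (QY n (NQ hn)) w hw)
  · intro P' hP'
    obtain ⟨P, hP, rfl⟩ := KL.GenTool.exists_minPar_map π o.πs hP'
    rcases par P hP with h1 | h1 | ⟨-, -, h3⟩
    · left
      rintro _ ⟨q, hq, rfl⟩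
      exact him hx1 ((hs q).2 (h1 q hq))
    · right
      have h3 : oddGen P ⊔ T = P := oddGen_sup hP.le
        fun h2 => h.syl (h2.trans (relIndex_dvd_index_of_le hP.le))
      have h4 : P ≤ (ViaRed.nst H' E).comap π := by
        rw [← h3]
        refine sup_le ?_ fun t ht => ViaRed.mem_nst (hE t (TY t ht))
        rw [oddGen_def, closure_le]
        rintro g ⟨hgP, hgo⟩
        refine ViaRed.mem_nst fun w hw => ?_
        rw [hsu g hgo (h1 g hgP hgo) w hw]
        exact hw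
      rintro _ ⟨q, hq, rfl⟩ w hw
      exact ViaRed.nst_mem (h4 hq) hw
    · right
      rintro _ ⟨q, hq, rfl⟩ w hw
      exact hE q (QY q (h3 hq)) w hw

end

end Cfsg.Agent.Omega.KL.StarR

end

section


/-!
# KL* with an object which the movers normalise (bb #24309 (6), both sides, with `O(H) = 1`; #24934, #25079)

* `SysR.exists_mv` : (`RedP`) some overgroup of `T` fixes a `T`-fixed vector `≠ 1` and moves another `T`-fixed vector;
* **`InpR.exists_sysT`** : (ML), `RedP` : `Two.SysT` for a section of `(H, M)`;  **`InpR.false_of`** : contradiction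
  with `Two.Ext`.
-/

set_option autoImplicit false

namespace Cfsg.Agent.Omega.KL.StarR

open Subgroup Cfsg Cfsg.Agent.ZN Cfsg.Agent.ClassTwoFusion.Quad
open Cfsg.Agent.Omega.ML.MinFrame hiding comm_of_sq
open Cfsg.Agent.Omega.ML.Final Cfsg.Agent.Omega.NO3S.EMany.Low
open Cfsg.Agent.Omega.KL.Star.Core
open Cfsg.Agent.Omega.KL.StarQ (exists_min)
open Cfsg.Agent.Omega.NO3b.EndX (RedP)
open Cfsg.Agent.MinSimple.VModule (o2_isPGroup o2_le le_o2 le_normalizer_o2 o2_le_of_sylow oddGen oddGen_le oddGen_def)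
open Cfsg.Agent.MinSimple.MinParabolic (IsMinPar le_of_forall)

universe u v

/-- **movers** -/
theorem SysR.exists_mv {H : Type u} [Group H] [Finite H] {M : Type v} [Group M] [Finite M] [MulDistribMulAction H M]
    {T A : Subgroup H} {x : M} {Y : Subgroup M} (hR : RedP.{u, v}) (h : SysR H M T A x Y) :
    ∃ x y : M, ML.Ex.Two.Mv T x y := by
  obtain ⟨u, hu, hu1, tu⟩ := h.ne
  refine Star.ViaRed.Sit.exists_mv (F := A) (Y := Y) (z := x) (u := u) hR
    ⟨h.sq, h.faith, h.irr, h.two, h.syl, h.AT, ?_, h.el, h.low, h.exact, h.nmax, h.NY, h.par, h.tx, tu, hu, hu1, h.xY⟩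
    h.KH fun F hF hFo => h.odd F hF hFo
  intro hA
  have h1 := h.four
  rw [hA, card_bot] at h1
  omega

namespace InpR

variable {H : Type u} [Group H] [Finite H] {M : Type v} [Group M] [Finite M] [MulDistribMulAction H M]
  {T A J Q : Subgroup H} {Z Y : Subgroup M}

omit [Finite M] in
theorem AT (i : InpR T A J Q Z Y) : A ≤ T :=
  i.AZ.trans (o2_le_of_sylow i.two fun h2 => i.syl (h2.trans (relIndex_dvd_index_of_le fun t ht z hz => i.tZ z hz t ht)))

/-- **the machine** -/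
theorem exists_sysR (i : InpR T A J Q Z Y) (hM : MLK.{u, v}) :
    ∃ (H' : Type u) (_ : Group H') (_ : Finite H') (N : Type v) (_ : Group N) (_ : Finite N)
      (_ : MulDistribMulAction H' N) (T' A' : Subgroup H') (x' : N) (Y' : Subgroup N), SysR H' N T' A' x' Y' := by
  obtain ⟨L, hTL, hAL, hlb, hNN⟩ := exists_min i.sq i.two i.syl i.AT i.el i.exact i.atom i.nA i.KH
  have hAT := i.AT
  have hAL' : A ≤ L := hAT.trans hTL
  -- a `T`-minimal subgroup of `L` which moves `Z`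
  obtain ⟨P, hPm, hPZ⟩ : ∃ P : Subgroup L, IsMinPar (T.subgroupOf L) P ∧
      ¬ ∀ z ∈ Z, ∀ p ∈ P, p • z = z := by
    by_contra hc
    push Not at hc
    apply hAL
    -- `C_L(Z)` is normal in `L`
    let F : Subgroup H := fxr H Z ⊓ L
    have hTF : T ≤ F := le_inf (fun t ht z hz => i.tZ z hz t ht) hTL
    have h1 : (⊤ : Subgroup L) ≤ (normalizer (F : Set H)).subgroupOf L := by
      refine le_of_forall (S := T.subgroupOf L) le_top (fun g hg => ?_) fun P hP _ p hp => ?_
      · rw [mem_subgroupOf]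
        have hg1 := hNN g hg.2
        have hconj : ∀ k : H, k ∈ normalizer (T : Set H) → k ∈ L → ∀ w ∈ F, k * w * k⁻¹ ∈ F := by
          intro k hk hkL w hw
          refine ⟨fun z hz => ?_, L.mul_mem (L.mul_mem hkL hw.2) (L.inv_mem hkL)⟩
          have h2 := hw.1 _ (i.NZ k⁻¹ (inv_mem hk) z hz)
          rw [mul_smul, mul_smul, h2, smul_inv_smul]
        rw [mem_normalizer_iff]
        intro w
        refine ⟨hconj g hg1 g.2 w, fun hw => ?_⟩
        have h2 := hconj (g : H)⁻¹ (inv_mem hg1) (L.inv_mem g.2) _ hw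
        have e : (g : H)⁻¹ * (g * w * (g : H)⁻¹) * (g : H)⁻¹⁻¹ = w := by group
        rwa [e] at h2
      · rw [mem_subgroupOf]
        exact le_normalizer (show (p : H) ∈ F from ⟨fun z hz => hc P hP z hz p hp, p.2⟩)
    have h2 : L ≤ normalizer (F : Set H) := fun g hg => h1 (mem_top (⟨g, hg⟩ : L))
    exact (le_inf i.AZ (hAT.trans hTF)).trans
      ((InpG.o2_le_o2_of_le inf_le_left).trans (o2_le_o2 inf_le_right h2))
  have hsep : (∀ g ∈ P, Odd (orderOf g) → ∀ w ∈ Y, g • w = w) ∨ P ≤ Q.subgroupOf L := by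
    rcases i.par _ (KL.GenTool.minPar_map_subtype hTL hPm) with h1 | h1 | ⟨-, -, h1⟩
    · exact (hPZ fun z hz p hp => h1 z hz _ ⟨p, hp, rfl⟩).elim
    · refine Or.inl fun g hg hgo w hw => h1 _ ⟨g, hg, rfl⟩ ?_ w hw
      rwa [Subgroup.coe_subtype, orderOf_coe]
    · exact Or.inr fun p hp => h1 ⟨p, hp, rfl⟩
  push Not at hPZ
  obtain ⟨x, hxZ, p, hp, hpx⟩ := hPZ
  have htx : ∀ t ∈ T.subgroupOf L, t • x = x := fun t ht => i.tZ x hxZ _ ht
  -- `L ≠ C_L(Y) T`
  have hY : ¬ ∀ g : L, Odd (orderOf g) → ∀ w ∈ Y, g • w = w := by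
    intro hc
    apply hAL
    have h1 : oddGen L ⊔ T = L := oddGen_sup hTL fun h2 => i.syl (h2.trans (relIndex_dvd_index_of_le hTL))
    have h2 : L ≤ fxr H Y ⊔ T := by
      rw [← h1]
      refine sup_le_sup_right ?_ T
      rw [oddGen_def, closure_le]
      rintro g ⟨hgL, hgo⟩ w hw
      exact hc ⟨g, hgL⟩ (by rwa [orderOf_mk]) w hw
    exact (le_inf i.AY hAL').trans (InpG.o2_le_o2_of_le h2)
  refine StarR.exists_sysR hlb hM htx (Y := Y) (J := J.subgroupOf L) (Q := Q.subgroupOf L)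
    (fun g hg => i.NQ (hNN g hg)) (fun q hq w hw => i.QY _ hq w hw) ?_ (fun j hj => i.JT hj) hY (fun R hR => ?_)
    ⟨P, hPm.le, ⟨p, hp, hpx⟩, fun g hg hgo y hy hgy => ?_⟩ ?_
  · intro q hq
    have h1 := i.QJ (show (q : H) ∈ Q from hq)
    rw [mem_normalizer_iff] at h1 ⊢
    exact fun j => h1 j
  · rcases i.par _ (KL.GenTool.minPar_map_subtype hTL hR) with h1 | h1 | ⟨h1, h2, h3⟩
    · exact Or.inl fun q hq => h1 x hxZ _ ⟨q, hq, rfl⟩
    · refine Or.inr (Or.inl fun g hg hgo w hw => h1 _ ⟨g, hg, rfl⟩ ?_ w hw)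
      rwa [Subgroup.coe_subtype, orderOf_coe]
    · exact Or.inr (Or.inr ⟨fun a ha => KL.GenTool.o2_subgroupOf_le R (h1 ha),
        fun a ha => KL.GenTool.o2_subgroupOf_le R (h2 ha), fun q hq => h3 ⟨q, hq, rfl⟩⟩)
  · rcases hsep with h1 | h1
    · have h2 := h1 g hg hgo y hy
      rw [smul_mul', h2] at hgy
      exact mul_right_cancel hgy
    · exact i.sep (g : H) (h1 hg) (by rwa [orderOf_coe]) x hxZ y hy hgy
  · rcases i.hb with h1 | h1
    · left
      intro d hd hdo hcom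
      refine h1 (d : H) hd (by rwa [orderOf_coe]) fun j hj w hw => ?_
      exact hcom ⟨j, hTL (i.JT hj)⟩ hj w hw
    · right
      exact fun w hw tw g => h1 w hw (fun t ht => tw ⟨t, hTL ht⟩ ht) g

/-- **KL* with an object which the movers normalise** -/
theorem exists_sysT (i : InpR T A J Q Z Y) (hM : MLK.{u, v}) (hR : RedP.{u, v}) :
    ∃ (H' : Type u) (_ : Group H') (_ : Finite H') (N : Type v) (_ : Group N) (_ : Finite N)
      (_ : MulDistribMulAction H' N) (T' A' : Subgroup H') (x' y' : N), ML.Ex.Two.SysT H' N T' A' x' y' := by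
  obtain ⟨H', i1, i2, N, i3, i4, i5, T', A', x', Y', h⟩ := i.exists_sysR hM
  obtain ⟨x, y, hm⟩ := h.exists_mv hR
  exact ⟨H', i1, i2, N, i3, i4, i5, T', A', x, y, h.toSysB.sysT hm⟩

/-- **KL* with an object which the movers normalise**, with EXT -/
theorem false_of (i : InpR T A J Q Z Y) (hM : MLK.{u, v}) (hR : RedP.{u, v}) (hE : ML.Ex.Two.Ext.{u, v}) : False := by
  obtain ⟨H', i1, i2, N, i3, i4, i5, T', A', x', y', h⟩ := i.exists_sysT hM hR
  exact hE H' N T' A' x' y' h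

end InpR

end Cfsg.Agent.Omega.KL.StarR

end

section


/-!
# The machine with an object `Y` which the movers normalise: the version for the nonsplit case of [R-z] (helper878)

This is helper345's `StarR.exists_sysR` (StarR/Core.lean) with a weaker `Bad`: the commutator hypothesis may be used for
all `m : M`.

`LB H M T A`, `x` a `T`-fixed vector.  Every `T`-minimal `P` fixes `x`, or its elements of odd order centralise `Y`, or
`A, J ≤ O₂(P)` and `P ≤ Q`; some `T`-minimal `P` moves `x`, and for its elements `g` of odd order: `g` fixes `x y`,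
`y ∈ Y` ⟹ `g` fixes `x`.

* **`exists_sysN`** : `SysR` (with `O(H') = 1`), the object is the image of `Y C_M(K₀ mod U₀) ∩ [M, K₀]`.
-/

set_option autoImplicit false

namespace Cfsg.Agent.Omega.KL.StarR

open Subgroup Cfsg Cfsg.Agent.ZN Cfsg.Agent.ClassTwoFusion.Quad
open Cfsg.Agent.Omega.ML.MinFrame hiding comm_of_sq
open Cfsg.Agent.Omega.ML.Final Cfsg.Agent.Omega.NO3S.EMany.Low
open Cfsg.Agent.Omega.KL.Star.Core
open Cfsg.Agent.Omega.KL.Star
open Cfsg.Agent.Omega.KL.StarQ (not_top inf_normal bot_of_fix norm_one)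
open Cfsg.Agent.MinSimple.VModule (o2_isPGroup o2_le le_o2 le_normalizer_o2 o2_le_of_sylow oddGen oddGen_le oddGen_def)
open Cfsg.Agent.MinSimple.MinParabolic (IsMinPar le_of_forall)

universe u v

/-- an element `d` of odd order of `Q` with `[[M, d], [J, d]] = 1` centralises `Y` -/
def BadM {H : Type u} [Group H] {M : Type v} [Group M] [MulDistribMulAction H M] (J Q : Subgroup H)
    (Y : Subgroup M) : Prop :=
  ∀ d ∈ Q, Odd (orderOf d) → (∀ j ∈ J, ∀ w : M, (j * d * j⁻¹ * d⁻¹) • ((d • w) * w⁻¹) = (d • w) * w⁻¹) →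
    ∀ w ∈ Y, d • w = w

section

variable {H : Type u} [Group H] [Finite H] {M : Type v} [Group M] [Finite M] [MulDistribMulAction H M]
  {T A : Subgroup H}

/-- **The machine with an object which the movers normalise.** -/
theorem exists_sysN (h : LB H M T A) (hM : MLK.{u, v}) {x : M} (tx : ∀ t ∈ T, t • x = x)
    {Y : Subgroup M} {J Q : Subgroup H} (NQ : normalizer (T : Set H) ≤ Q) (QY : ∀ q ∈ Q, ∀ w ∈ Y, q • w ∈ Y)
    (QJ : Q ≤ normalizer (J : Set H)) (JT : J ≤ T)
    (hY : ¬ ∀ g : H, Odd (orderOf g) → ∀ w ∈ Y, g • w = w)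
    (par : ∀ P : Subgroup H, IsMinPar T P → (∀ p ∈ P, p • x = x) ∨
      (∀ g ∈ P, Odd (orderOf g) → ∀ w ∈ Y, g • w = w) ∨ (A ≤ o2 P ∧ J ≤ o2 P ∧ P ≤ Q))
    (mv : ∃ P : Subgroup H, T ≤ P ∧ (∃ p ∈ P, p • x ≠ x) ∧
      ∀ g ∈ P, Odd (orderOf g) → ∀ y ∈ Y, g • (x * y) = x * y → g • x = x)
    (hb : BadM J Q Y ∨ Cen T Y) :
    ∃ (H' : Type u) (_ : Group H') (_ : Finite H') (N : Type v) (_ : Group N) (_ : Finite N)
      (_ : MulDistribMulAction H' N) (T' A' : Subgroup H') (x' : N) (Y' : Subgroup N), SysR H' N T' A' x' Y' := by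
  have hcomm := comm_of_sq h.sq
  have hx : ¬ ∀ g : H, g • x = x := by
    obtain ⟨P, -, ⟨p, -, hp⟩, -⟩ := mv
    exact fun hc => hp (hc p)
  have TQ : T ≤ Q := le_normalizer.trans NQ
  have TY : ∀ t ∈ T, ∀ w ∈ Y, t • w ∈ Y := fun t ht => QY t (TQ ht)
  -- the shift of `x`
  obtain ⟨x0, hx0, hx01⟩ := exists_fix_coset (T := T) (R := ⊤) h.sq (by rw [relIndex_top_right]; exact h.syl) tx
    (I := cmm M A) (fun g _ => h.orb_eq tx g)
  obtain ⟨x1, hx1, hx1e⟩ : ∃ x1 ∈ cmm M A, x1 = x0 * x⁻¹ := ⟨_, hx01, rfl⟩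
  have hs : ∀ g : H, g • x1 = x1 ↔ g • x = x := by
    intro g
    rw [hx1e, smul_mul', smul_inv', hx0 g (mem_top g), mul_right_inj, inv_inj]
  have tx1 : ∀ t ∈ T, t • x1 = x1 := fun t ht => (hs t).2 (tx t ht)
  have mx1 : ¬ ∀ g : H, g • x1 = x1 := fun hc => hx fun g => (hs g).1 (hc g)
  obtain ⟨u, ⟨hu1, hu2⟩, hu3⟩ := exists_vec h TY hY
  obtain ⟨H', j1, j2, N, j3, j4, j5, π, f, B, o⟩ := h.exists_out hM tx1 mx1 hx1
  -- the object in `N`
  let E : Subgroup N := ((Y ⊔ wz M A h.sq).subgroupOf (cmm M A)).map f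
  have hn : (wz M A h.sq).Normal := normal_of_sq h.sq _
  have hYW : ∀ g : H, (∀ w ∈ Y, g • w ∈ Y) → ∀ w ∈ Y ⊔ wz M A h.sq, g • w ∈ Y ⊔ wz M A h.sq := by
    intro g hg w hw
    obtain ⟨y, hy, w0, hw0, rfl⟩ := mem_sup_of_normal_right.1 hw
    rw [smul_mul']
    exact mul_mem (le_sup_left (a := Y) (hg y hy)) (le_sup_right (a := Y) (smul_mem_wz g hw0))
  have hE : ∀ g : H, (∀ w ∈ Y, g • w ∈ Y) → ∀ w ∈ E, π g • w ∈ E := by
    rintro g hg _ ⟨w, hw, rfl⟩
    refine ⟨⟨g • (w : M), smul_mem_cmm g w.2⟩, hYW g hg _ hw, ?_⟩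
    exact o.eqv g w
  have hE1 : E ≠ ⊥ := by
    intro h1
    have h2 : f ⟨u, hu2⟩ ∈ E := ⟨⟨u, hu2⟩, hu1, rfl⟩
    rw [h1, mem_bot, o.ker] at h2
    exact hu3 h2
  -- elements of odd order which centralise `Y` fix `E`
  have hsu : ∀ g : H, Odd (orderOf g) → (∀ w ∈ Y, g • w = w) → ∀ w ∈ E, π g • w = w := by
    rintro g hg hgY _ ⟨w, hw, rfl⟩
    rw [← o.eqv, ← mul_inv_eq_one, ← map_inv, ← map_mul, o.ker]
    change (g • (w : M)) * (w : M)⁻¹ ∈ _
    have hgK : g ∈ Km A := mem_of_odd h.two h.gen hg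
    have hw' : (w : M) ∈ Y ⊔ wz M A h.sq := hw
    obtain ⟨y, hy, w0, hw0, hyw⟩ := mem_sup_of_normal_right.1 hw'
    rw [← hyw]
    have e : g • (y * w0) * (y * w0)⁻¹ = (g • w0) * w0⁻¹ := by
      rw [smul_mul', hgY y hy, mul_inv_rev, hcomm y]
      calc g • w0 * y * (w0⁻¹ * y⁻¹) = g • w0 * (y * w0⁻¹) * y⁻¹ := by group
        _ = g • w0 * (w0⁻¹ * y) * y⁻¹ := by rw [hcomm y w0⁻¹]
        _ = _ := by group
    rw [e]
    exact hw0 g hgK
  have him : ∀ {m : M} (hm : m ∈ cmm M A) {g : H}, g • m = m → π g • f ⟨m, hm⟩ = f ⟨m, hm⟩ := by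
    intro m hm g hg
    rw [← o.eqv g ⟨m, hm⟩]
    exact congrArg f (Subtype.ext hg)
  have htx : ∀ t ∈ T.map π, t • f ⟨x1, hx1⟩ = f ⟨x1, hx1⟩ := by
    rintro _ ⟨t, ht, rfl⟩
    exact him hx1 (tx1 t ht)
  have nx1 : f ⟨x1, hx1⟩ ≠ 1 := by
    rw [Ne, o.ker]
    exact fun hc => mx1 fun g => h.fix_of_cvKm tx1 hc g
  -- `x' ∉ E`
  have hxE : f ⟨x1, hx1⟩ ∉ E := by
    rintro ⟨w, hw, hwx⟩
    obtain ⟨P, hPm, ⟨p, hp, hpx⟩, hsep⟩ := mv
    have h1 : (w : M) * x1⁻¹ ∈ cv M (Km A : Set H) := by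
      have h2 : f (w * (⟨x1, hx1⟩ : ↥(cmm M A))⁻¹) = 1 := by rw [map_mul, map_inv, hwx, mul_inv_cancel]
      exact (o.ker _).1 h2
    have hcw : cv M (Km A : Set H) ≤ wz M A h.sq := by
      intro m hm k hk
      rw [hm k hk, mul_inv_cancel]
      exact one_mem _
    have h2 : x1 ∈ Y ⊔ wz M A h.sq := by
      have e : x1 = ((w : M) * x1⁻¹)⁻¹ * w := by group
      rw [e]
      exact mul_mem (inv_mem (le_sup_right (a := Y) (hcw h1))) hw
    have h3 : x ∈ Y ⊔ wz M A h.sq := by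
      have e : x = x1⁻¹ * x0 := by
        rw [hx1e, mul_inv_rev, inv_inv, mul_assoc, inv_mul_cancel, mul_one]
      rw [e]
      refine mul_mem (inv_mem h2) (le_sup_right (a := Y) (hcw fun k _ => hx0 k (mem_top k)))
    obtain ⟨y, hy, w0, hw0, hyw⟩ := mem_sup_of_normal_right.1 h3
    -- the elements of odd order of `P` fix `x`
    have h4 : ∀ g ∈ P, Odd (orderOf g) → g • x = x := by
      intro g hg hgo
      refine hsep g hg hgo y⁻¹ (inv_mem hy) ?_
      have hgK : g ∈ Km A := mem_of_odd h.two h.gen hgo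
      have e : x * y⁻¹ = w0 := by rw [← hyw, hcomm y w0, mul_assoc, mul_inv_cancel, mul_one]
      rw [e]
      exact fix_of_odd h.sq hgo (hw0 g hgK g hgK)
    have h5 : oddGen P ⊔ T = P := oddGen_sup hPm
      fun h2 => h.syl (h2.trans (relIndex_dvd_index_of_le hPm))
    have h6 : P ≤ MulAction.stabilizer H x := by
      rw [← h5]
      refine sup_le ?_ fun t ht => tx t ht
      rw [oddGen_def, closure_le]
      rintro g ⟨hgP, hgo⟩
      exact h4 g hgP hgo
    exact hpx (h6 hp)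
  -- a `T`-fixed vector of `E`
  obtain ⟨u', hu', hu'1, tu'⟩ := exists_fix o.lb.sq (h.two.map π) (fun t ht w hw => by
    obtain ⟨s, hs', rfl⟩ := ht
    exact hE s (TY s hs') w hw) hE1
  have hxu : f ⟨x1, hx1⟩ ≠ u' := fun he => hxE (he ▸ hu')
  -- the parabolics
  have parE : ∀ P : Subgroup H, IsMinPar T P → (∃ m : N, m ≠ 1 ∧ ∀ p ∈ P.map π, p • m = m) ∨
      (A ≤ o2 P ∧ J ≤ o2 P ∧ P ≤ Q) := by
    intro P hP
    rcases par P hP with h1 | h1 | h1
    · left
      refine ⟨_, nx1, ?_⟩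
      rintro _ ⟨q, hq, rfl⟩
      exact him hx1 ((hs q).2 (h1 q hq))
    · left
      refine ⟨u', hu'1, ?_⟩
      have h3 : oddGen P ⊔ T = P := oddGen_sup hP.le
        fun h2 => h.syl (h2.trans (relIndex_dvd_index_of_le hP.le))
      have h4 : P ≤ (MulAction.stabilizer H' u').comap π := by
        rw [← h3]
        refine sup_le ?_ fun t ht => tu' (π t) ⟨t, ht, rfl⟩
        rw [oddGen_def, closure_le]
        rintro g ⟨hgP, hgo⟩
        exact hsu g hgo (h1 g hgP hgo) u' hu'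
      rintro _ ⟨q, hq, rfl⟩
      exact h4 hq
    · exact Or.inr h1
  -- no vector is fixed by `H'`
  have hnofix : ∀ m : N, m ≠ 1 → ¬ ∀ g : H', g • m = m := by
    intro m hm hc
    have h1 : (⊤ : Subgroup H') = ⊥ := bot_of_fix o.faith o.irr inferInstance hm fun g _ => hc g
    apply o.lb.B1
    rw [eq_bot_iff, ← h1]
    exact le_top
  have nmax : ¬ ∃ L : Subgroup H', L ≠ ⊤ ∧ ∀ R : Subgroup H', T.map π ≤ R → R ≠ ⊤ → R ≤ L := by
    rintro ⟨L, hL, hLm⟩
    by_cases hn : (⊤ : Subgroup H') ≤ normalizer ((T.map π : Subgroup H') : Set H')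
    · exact o.lb.nb (o.lb.BT.trans (le_o2 le_top o.lb.two hn))
    · obtain ⟨P, hP, hPt⟩ := KL.GenTool.exists_minPar_map π o.πs
        (P' := ⊤) ⟨le_top, hn, L, lt_top_iff_ne_top.2 hL, fun K hK hlt => hLm K hK hlt.ne⟩
      rcases parE P hP with ⟨m, hm, h1⟩ | ⟨h1, -, -⟩
      · rw [hPt] at h1
        exact hnofix m hm fun g => h1 g (mem_top g)
      · apply o.lb.nb
        have h2 := (map_mono (f := π) h1).trans (KL.GenTool.o2_map_le π P)
        rw [hPt] at h2
        exact o.AB.trans h2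
  -- the kernel of `π` centralises `U¹`
  have hkx1 : ∀ k ∈ π.ker ⊔ T, k • x1 = x1 := by
    refine h.fix_of_mod tx1 le_sup_right (I := cv M (Km A : Set H))
      (fun w hw tw g _ => h.fix_of_cvKm tw hw g) fun k hk => ?_
    have h1 : π k • f ⟨x1, hx1⟩ = f ⟨x1, hx1⟩ := by
      obtain ⟨k1, hk1, s, hs', rfl⟩ := mem_sup_of_normal_left.1 hk
      rw [map_mul, (MonoidHom.mem_ker).1 hk1, one_mul]
      exact him hx1 (tx1 s hs')
    rw [← o.eqv k ⟨x1, hx1⟩, ← mul_inv_eq_one, ← map_inv, ← map_mul, o.ker] at h1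
    exact h1
  have hkU : ∀ k ∈ π.ker, ∀ w ∈ cmm M A, k • w = w := by
    intro k hk w hw
    have h1 : k ∈ fxr H (orb (⊤ : Subgroup H) x1) := by
      rw [mem_fxr_orb]
      intro s _
      have h2 := hkx1 (s⁻¹ * k * s) (by
        have := (inferInstance : (π.ker).Normal).conj_mem k hk s⁻¹
        rw [inv_inv] at this
        exact mem_sup_left this)
      rwa [mul_smul, mul_smul, inv_smul_eq_iff] at h2
    exact h1 w (h.cmm_le hM tx1 mx1 hw)
  refine ⟨H', j1, j2, N, j3, j4, j5, T.map π, B, f ⟨x1, hx1⟩, E, ?_⟩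
  refine ⟨⟨nx1, htx, o.lb.sq, o.faith, o.irr, o.lb.two, o.lb.syl, o.lb.BT, o.lb.el,
    four_le o.lb.sq o.faith o.irr o.lb htx tu' nx1 hu'1 hxu, o.lb.exact, o.lb.atom, o.lb.low, nmax, ?_, o.lb.KH⟩,
    ?_, ?_, ⟨u', hu', hu'1, tu'⟩, hxE⟩
  · -- no normal subgroup of odd order
    intro K hK hKo
    -- the `T'`-minimal subgroups of `K T'`
    have hmin : ∀ P' : Subgroup H', IsMinPar (T.map π) P' → P' ≤ K ⊔ T.map π →
        P' ≤ Q.map π ∧ J.map π ≤ o2 P' ∧ P' ⊓ K ⊔ T.map π = P' := by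
      intro P' hP' hPK
      obtain ⟨P, hP, rfl⟩ := KL.GenTool.exists_minPar_map π o.πs hP'
      obtain ⟨hn1, hn2⟩ := inf_normal o.lb nmax hK hKo hP'.le hPK
      rcases parE P hP with ⟨m, hm, h1⟩ | ⟨h1, h2, h3⟩
      · have h6 := bot_of_fix o.faith o.irr hn1 hm fun n hn => h1 n hn.1
        rw [h6, bot_sup_eq] at hn2
        exact (hP'.ne hn2).elim
      · exact ⟨map_mono h3, (map_mono h2).trans (KL.GenTool.o2_map_le π P), hn2⟩
    -- `K ≤ π(Q)`
    have hKN : K ≤ Q.map π := by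
      have hle : K ⊔ T.map π ≤ Q.map π := by
        refine le_of_forall le_sup_right ?_ fun P' hP' hPK => (hmin P' hP' hPK).1
        rintro ν ⟨-, hν⟩
        obtain ⟨_, ⟨t, ht, rfl⟩, n, hn, rfl⟩ := KL.GenTool.exists_normalizer_map π o.πs h.two h.syl hν
        exact mul_mem ⟨t, TQ ht, rfl⟩ ⟨n, NQ hn, rfl⟩
      exact le_sup_left.trans hle
    have hT2 : IsPGroup 2 (T.map π) := o.lb.two
    -- the elements of odd order in the preimage of `K` centralise `Y`
    have hDY : ∀ g ∈ Q, π g ∈ K → Odd (orderOf g) → ∀ w ∈ Y, g • w = w := by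
      rcases hb with bad | cY
      · -- `π(J)` centralises `K`
        let C : Subgroup H' := K ⊓ centralizer ((J.map π : Subgroup H') : Set H')
        have hTC : T.map π ≤ normalizer (C : Set H') := by
          have hconj : ∀ t ∈ T.map π, ∀ c ∈ C, t * c * t⁻¹ ∈ C := by
            rintro _ ⟨t, ht, rfl⟩ c hc
            refine ⟨hK.conj_mem c hc.1 _, mem_centralizer_iff.2 ?_⟩
            rintro _ ⟨j, hj, rfl⟩
            have h1 : t⁻¹ * j * t ∈ J := by
              have := (mem_normalizer_iff.1 (QJ (TQ (T.inv_mem ht))) j).1 hj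
              rwa [inv_inv] at this
            have h2 := mem_centralizer_iff.1 hc.2 _ ⟨_, h1, rfl⟩
            rw [map_mul, map_mul, map_inv] at h2
            have h3 := congrArg (fun w => π t * w * (π t)⁻¹) h2
            calc π j * (π t * c * (π t)⁻¹) = π t * ((π t)⁻¹ * π j * π t * c) * (π t)⁻¹ := by group
              _ = π t * (c * ((π t)⁻¹ * π j * π t)) * (π t)⁻¹ := h3
              _ = π t * c * (π t)⁻¹ * π j := by group
          intro t ht
          rw [mem_normalizer_iff]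
          intro c
          refine ⟨fun hc => hconj t ht c hc, fun hc => ?_⟩
          have h1 := hconj t⁻¹ ((T.map π).inv_mem ht) _ hc
          have e : t⁻¹ * (t * c * t⁻¹) * t⁻¹⁻¹ = c := by group
          rwa [e] at h1
        have hKC : K ⊔ T.map π ≤ C ⊔ T.map π := by
          refine le_of_forall (S := T.map π) le_sup_right ?_ ?_
          · rintro ν ⟨hν1, hν2⟩
            obtain ⟨k, hk, t, ht, rfl⟩ := mem_sup_of_normal_left.1 hν1
            refine mul_mem_sup ⟨hk, mem_centralizer_iff.2 ?_⟩ ht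
            have hkT : k ∈ normalizer ((T.map π : Subgroup H') : Set H') := by
              have h1 := (normalizer ((T.map π : Subgroup H') : Set H')).mul_mem hν2 (inv_mem (le_normalizer ht))
              rwa [mul_inv_cancel_right] at h1
            intro s hs'
            have hsT : s ∈ T.map π := map_mono JT hs'
            have h1 : s * k * s⁻¹ * k⁻¹ ∈ K := mul_mem (hK.conj_mem k hk s) (inv_mem hk)
            have h2 : s * k * s⁻¹ * k⁻¹ ∈ T.map π := by
              have h3 := (mem_normalizer_iff.1 hkT s⁻¹).1 (inv_mem hsT)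
              have h4 := mul_mem hsT h3
              have e : s * (k * s⁻¹ * k⁻¹) = s * k * s⁻¹ * k⁻¹ := by group
              rwa [e] at h4
            have h3 := eq_one_of_odd hKo hT2 h1 h2
            calc s * k = s * k * s⁻¹ * k⁻¹ * (k * s) := by group
              _ = k * s := by rw [h3, one_mul]
          · intro P' hP' hPK
            obtain ⟨-, h1, h2⟩ := hmin P' hP' hPK
            rw [← h2]
            refine sup_le_sup_right ?_ _
            rintro k ⟨hkP, hkK⟩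
            refine ⟨hkK, mem_centralizer_iff.2 fun s hs' => ?_⟩
            have h3 : s * k * s⁻¹ * k⁻¹ ∈ K := mul_mem (hK.conj_mem k hkK s) (inv_mem hkK)
            have h4 : s * k * s⁻¹ * k⁻¹ ∈ o2 P' := by
              have h5 := (mem_normalizer_iff.1 (le_normalizer_o2 P' hkP) s⁻¹).1 (inv_mem (h1 hs'))
              have h6 := mul_mem (h1 hs') h5
              have e : s * (k * s⁻¹ * k⁻¹) = s * k * s⁻¹ * k⁻¹ := by group
              rwa [e] at h6
            have h5 := eq_one_of_odd hKo (o2_isPGroup P') h3 h4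
            calc s * k = s * k * s⁻¹ * k⁻¹ * (k * s) := by group
              _ = k * s := by rw [h5, one_mul]
        have hKJ : ∀ κ ∈ K, ∀ j ∈ J, π j * κ = κ * π j := by
          intro κ hκ j hj
          have h1 : κ ∈ ((C ⊔ T.map π : Subgroup H') : Set H') := hKC (mem_sup_left hκ)
          rw [coe_mul_of_right_le_normalizer_left C (T.map π) hTC] at h1
          obtain ⟨c, hc, t, ht, rfl⟩ := h1
          have h3 : t ∈ K := by
            have := K.mul_mem (K.inv_mem hc.1) hκ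
            simpa using this
          have h4 : t = 1 := eq_one_of_odd hKo hT2 h3 ht
          rw [h4]
          simp only [mul_one]
          exact mem_centralizer_iff.1 hc.2 _ ⟨j, hj, rfl⟩
        intro g hg hgK hgo
        refine bad g hg hgo fun j hj w => ?_
        refine hkU _ ?_ _ (mem_cmm (mem_of_odd h.two h.gen hgo) w)
        rw [MonoidHom.mem_ker, map_mul, map_mul, map_mul, map_inv, map_inv, hKJ _ hgK j hj]
        group
      · -- `[Y ∩ U¹, D] = 1`
        let D : Subgroup H := Q ⊓ K.comap π ⊓ Km A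
        have hDm : D.map π ≤ K := by
          rintro _ ⟨g, hg, rfl⟩
          exact hg.1.2
        have hDo : Odd (Nat.card (D.map π)) := hKo.of_dvd_nat (card_dvd_of_le hDm)
        have hDU : ∀ g ∈ D, ∀ m ∈ Y ⊓ cmm M A, g • m ∈ Y ⊓ cmm M A := fun g hg m hm =>
          ⟨QY g hg.1.1 m hm.1, smul_mem_cmm g hm.2⟩
        let W : Subgroup M := closure {w : M | ∃ g ∈ D, ∃ y ∈ ((Y ⊓ cmm M A : Subgroup M) : Set M), w = (g • y) * y⁻¹}
        have hWY : W ≤ Y ⊓ cmm M A := by
          rw [closure_le]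
          rintro _ ⟨g, hg, y, hy, rfl⟩
          exact mul_mem (hDU g hg y hy) (inv_mem hy)
        have hDT : ∀ t ∈ T, ∀ g ∈ D, t * g * t⁻¹ ∈ D := by
          intro t ht g hg
          refine ⟨⟨Q.mul_mem (Q.mul_mem (TQ ht) hg.1.1) (Q.inv_mem (TQ ht)), ?_⟩, ?_⟩
          · exact (inferInstance : (K.comap π).Normal).conj_mem g hg.1.2 t
          · exact (inferInstance : (Km A).Normal).conj_mem g hg.2 t
        have hTW : ∀ t ∈ T, ∀ w ∈ W, t • w ∈ W := by
          intro t ht w hw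
          have h1 : W ≤ W.comap (MulDistribMulAction.toMonoidHom M t) := by
            rw [closure_le]
            rintro _ ⟨g, hg, y, hy, rfl⟩
            change t • ((g • y) * y⁻¹) ∈ W
            refine subset_closure ⟨t * g * t⁻¹, hDT t ht g hg, t • y, ⟨TY t ht y hy.1, smul_mem_cmm t hy.2⟩, ?_⟩
            rw [smul_mul', smul_inv', ← mul_smul, ← mul_smul, inv_mul_cancel_right]
          exact h1 hw
        have hW1 : W = ⊥ := by
          by_contra hne
          obtain ⟨w, hw, hw1, tw⟩ := exists_fix h.sq h.two hTW hne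
          exact hw1 (norm_one h.sq π (U := cmm M A) hkU hDo (fun m hm => hm.2) hw
            fun g _ => cY w (hWY hw).1 tw g)
        intro g hgQ hgK hgo w hw
        have hg : g ∈ D := ⟨⟨hgQ, hgK⟩, mem_of_odd h.two h.gen hgo⟩
        refine fix_of_odd h.sq hgo ?_
        have h1 : (g • w) * w⁻¹ ∈ ((Y ⊓ cmm M A : Subgroup M) : Set M) :=
          ⟨Y.mul_mem (QY g hgQ w hw) (Y.inv_mem hw), mem_cmm hg.2 w⟩
        have h2 : (g • ((g • w) * w⁻¹)) * ((g • w) * w⁻¹)⁻¹ ∈ W := subset_closure ⟨g, hg, _, h1, rfl⟩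
        rw [hW1, mem_bot] at h2
        exact mul_inv_eq_one.1 h2
    refine bot_of_fix o.faith o.irr hK hu'1 fun κ hκ => ?_
    obtain ⟨g, hg, rfl⟩ := hKN hκ
    -- the odd part of `g`
    obtain ⟨a, m, hm, ha⟩ := Nat.exists_eq_pow_mul_and_not_dvd (orderOf_pos g).ne' 2 (by norm_num)
    have hm' : Odd m := Nat.not_even_iff_odd.1 fun h => hm h.two_dvd
    have hgo : orderOf (g ^ 2 ^ a) = m := by
      rw [orderOf_pow_of_dvd (by positivity) (ha ▸ Dvd.intro _ rfl), ha, Nat.mul_div_cancel_left _ (by positivity)]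
    have hgo' : Odd (orderOf (g ^ 2 ^ a)) := hgo ▸ hm'
    have h1 : π g ^ 2 ^ a • u' = u' := by
      rw [← map_pow]
      refine hsu _ hgo' (hDY _ (pow_mem hg _) ?_ hgo') u' hu'
      rw [map_pow]
      exact K.pow_mem hκ _
    have h2 : (2 ^ a).Coprime (orderOf (π g)) := by
      have h3 : orderOf (π g) ∣ Nat.card K := by
        have := orderOf_dvd_natCard (⟨π g, hκ⟩ : K)
        rwa [orderOf_mk] at this
      exact Nat.Coprime.pow_left a (Nat.coprime_two_left.mpr (hKo.of_dvd_nat h3))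
    obtain ⟨j, hj⟩ := exists_pow_eq_self_of_coprime h2
    have h3 : (π g ^ 2 ^ a) ^ j ∈ MulAction.stabilizer H' u' := pow_mem h1 j
    rw [hj] at h3
    exact h3
  · -- `N_{H'}(T')` normalises `E`
    intro ν hν w hw
    obtain ⟨_, ⟨t, ht, rfl⟩, n, hn, rfl⟩ := KL.GenTool.exists_normalizer_map π o.πs h.two h.syl hν
    rw [mul_smul]
    exact hE t (TY t ht) _ (hE n (QY n (NQ hn)) w hw)
  · intro P' hP'
    obtain ⟨P, hP, rfl⟩ := KL.GenTool.exists_minPar_map π o.πs hP'
    rcases par P hP with h1 | h1 | ⟨-, -, h3⟩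
    · left
      rintro _ ⟨q, hq, rfl⟩
      exact him hx1 ((hs q).2 (h1 q hq))
    · right
      have h3 : oddGen P ⊔ T = P := oddGen_sup hP.le
        fun h2 => h.syl (h2.trans (relIndex_dvd_index_of_le hP.le))
      have h4 : P ≤ (ViaRed.nst H' E).comap π := by
        rw [← h3]
        refine sup_le ?_ fun t ht => ViaRed.mem_nst (hE t (TY t ht))
        rw [oddGen_def, closure_le]
        rintro g ⟨hgP, hgo⟩
        refine ViaRed.mem_nst fun w hw => ?_
        rw [hsu g hgo (h1 g hgP hgo) w hw]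
        exact hw
      rintro _ ⟨q, hq, rfl⟩ w hw
      exact ViaRed.nst_mem (h4 hq) hw
    · right
      rintro _ ⟨q, hq, rfl⟩ w hw
      exact hE q (QY q (h3 hq)) w hw

end

end Cfsg.Agent.Omega.KL.StarR

end
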